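import Cfsg.Prelude.Def_Local
import Cfsg.Agent.Signalizer.StandardTrichotomy
import Cfsg.Agent.ProductFusion.Theorem
import Mathlib.GroupTheory.Transfer

/-!
A standard subgroup `A` with centre of order two whose centralizer has cyclic Sylow 2-subgroups and whose
normalizer induces only inner automorphisms: conjugates of the central involution `z` that commute with `z`
lie in `A`, so `A` is normal when `z` has no other conjugate in `A` and the odd core is trivial.
-/

set_option autoImplicit false
set_option linter.style.haveILetI false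
set_option linter.unusedSectionVars false

namespace CfsgLib.StdDoubleCover

open Subgroup

variable {G : Type*} [Group G]

/-- The hypotheses: `z` is the involution of the centre of `A`. -/
structure Setup (A : Subgroup G) (z : G) : Prop where
  std : Cfsg.IsStandardSubgroup A
  cyc : ∀ R : Sylow 2 ↥(centralizer (A : Set G)),
    IsCyclic ↥(R : Subgroup ↥(centralizer (A : Set G)))
  ord : orderOf z = 2
  zA : z ∈ A
  zC : z ∈ centralizer (A : Set G)
  sq_center : ∀ a ∈ A, a ∈ centralizer (A : Set G) → a * a = 1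
  prod : ∀ x ∈ normalizer (A : Set G), ∃ a ∈ A, ∃ c ∈ centralizer (A : Set G), x = a * c

variable [Finite G] {A : Subgroup G} {z : G}

theorem commute_of_mem {a c : G} (ha : a ∈ A) (hc : c ∈ centralizer (A : Set G)) : Commute a c :=
  mem_centralizer_iff.1 hc a ha

namespace Setup

variable (S : Setup A z)
include S

theorem mul_self : z * z = 1 := by rw [← pow_two, ← S.ord]; exact pow_orderOf_eq_one z

theorem ne_one : z ≠ 1 := fun h => by have := S.ord; rw [h, orderOf_one] at this; omega

theorem commute_centralizer {c : G} (hc : c ∈ centralizer (A : Set G)) : Commute z c :=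
  commute_of_mem S.zA hc

/-- `z` lies in every Sylow 2-subgroup of the centralizer. -/
theorem mem_sylow (P : Sylow 2 ↥(centralizer (A : Set G))) :
    (⟨z, S.zC⟩ : ↥(centralizer (A : Set G))) ∈ (P : Subgroup ↥(centralizer (A : Set G))) := by
  haveI : Fact (Nat.Prime 2) := ⟨Nat.prime_two⟩
  set v : ↥(centralizer (A : Set G)) := ⟨z, S.zC⟩
  have hv : IsPGroup 2 (zpowers v) := IsPGroup.of_card (n := 1) (by
    rw [Nat.card_zpowers, ← Subgroup.orderOf_coe, pow_one, S.ord])
  obtain ⟨Q, hQ⟩ := hv.exists_le_sylow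
  obtain ⟨g, hg⟩ := MulAction.exists_smul_eq ↥(centralizer (A : Set G)) Q P
  rw [← hg]
  exact ⟨v, hQ (mem_zpowers v), Subtype.ext (show (g : G) * z * (g : G)⁻¹ = z by
    rw [← (S.commute_centralizer g.2).eq, mul_inv_cancel_right])⟩

/-- The only involution of a cyclic 2-subgroup containing `z`. -/
theorem eq_z_of_mem_sylow (P : Sylow 2 ↥(centralizer (A : Set G))) {w : ↥(centralizer (A : Set G))}
    (hw : w ∈ (P : Subgroup ↥(centralizer (A : Set G)))) (h2 : (w : G) * w = 1) :
    (w : G) = 1 ∨ (w : G) = z := by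
  classical
  haveI := S.cyc P
  haveI : Fintype ↥(P : Subgroup ↥(centralizer (A : Set G))) := Fintype.ofFinite _
  by_contra hcon
  push Not at hcon
  let a : ↥(P : Subgroup ↥(centralizer (A : Set G))) := ⟨w, hw⟩
  let b : ↥(P : Subgroup ↥(centralizer (A : Set G))) := ⟨_, S.mem_sylow P⟩
  have hsub : ({1, a, b} : Finset _) ⊆ Finset.univ.filter fun x => x ^ 2 = 1 := by
    intro x hx
    simp only [Finset.mem_insert, Finset.mem_singleton] at hx
    simp only [Finset.mem_filter, Finset.mem_univ, true_and]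
    rcases hx with rfl | rfl | rfl
    · exact one_pow 2
    · exact Subtype.ext (Subtype.ext (by simpa [pow_two, a] using h2))
    · exact Subtype.ext (Subtype.ext (by simpa [pow_two, b] using S.mul_self))
  have h3 : ({1, a, b} : Finset _).card = 3 := by
    rw [Finset.card_insert_of_notMem, Finset.card_pair]
    · exact fun h => hcon.2 (by simpa [a, b] using congrArg (fun x => ((x.1 : G))) h)
    · simp only [Finset.mem_insert, Finset.mem_singleton, not_or]
      exact ⟨fun h => hcon.1 (by simpa [a] using (congrArg (fun x => ((x.1 : G))) h).symm),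
        fun h => S.ne_one (by simpa [b] using (congrArg (fun x => ((x.1 : G))) h).symm)⟩
  have := (Finset.card_le_card hsub).trans (IsCyclic.card_pow_eq_one_le (n := 2) (by norm_num))
  omega

/-- The centralizer of `z` normalizes `A`, and conversely. -/
theorem centralizer_eq : centralizer ({z} : Set G) = normalizer (A : Set G) := by
  refine le_antisymm (Signalizer.centralizer_le_normalizer_of_mem S.std S.ord S.zC) fun x hx => ?_
  rw [mem_centralizer_singleton_iff]
  obtain ⟨a, ha, c, hc, rfl⟩ := S.prod x hx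
  exact ((commute_of_mem ha S.zC).mul_left (S.commute_centralizer hc).symm)

theorem exists_prod {x : G} (hx : Commute x z) :
    ∃ a ∈ A, ∃ c ∈ centralizer (A : Set G), x = a * c :=
  S.prod x (S.centralizer_eq ▸ mem_centralizer_singleton_iff.2 hx.eq)

/-- Half the order of a Sylow 2-subgroup of the centralizer. -/
noncomputable def half (_ : Setup A z) : ℕ :=
  2 ^ ((Nat.card ↥(centralizer (A : Set G))).factorization 2 - 1)

theorem card_sylow (P : Sylow 2 ↥(centralizer (A : Set G))) :
    Nat.card ↥(P : Subgroup ↥(centralizer (A : Set G))) = 2 * S.half := by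
  haveI : Fact (Nat.Prime 2) := ⟨Nat.prime_two⟩
  rw [P.card_eq_multiplicity]
  have hpos : 0 < (Nat.card ↥(centralizer (A : Set G))).factorization 2 :=
    Nat.Prime.factorization_pos_of_dvd Nat.prime_two Nat.card_pos.ne' (by
      have := orderOf_dvd_natCard (⟨z, S.zC⟩ : ↥(centralizer (A : Set G)))
      rwa [Subgroup.orderOf_mk, S.ord] at this)
  rw [half, ← pow_succ', Nat.sub_add_cancel hpos]

/-- A power of a member of the centralizer is of odd order up to `z`. -/
theorem pow_half {c : G} (hc : c ∈ centralizer (A : Set G)) :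
    ∃ o ∈ centralizer (A : Set G), Odd (orderOf o) ∧ (c ^ S.half = o ∨ c ^ S.half = z * o) := by
  classical
  haveI : Fact (Nat.Prime 2) := ⟨Nat.prime_two⟩
  let C := centralizer (A : Set G)
  obtain ⟨P⟩ := (inferInstance : Nonempty (Sylow 2 ↥C))
  have hev : (Nat.card ↥C).minFac = 2 := by
    rw [Nat.minFac_eq_two_iff]
    have := orderOf_dvd_natCard (⟨z, S.zC⟩ : ↥C)
    rwa [Subgroup.orderOf_mk, S.ord] at this
  have hle := (S.cyc P).normalizer_le_centralizer hev
  set χ := MonoidHom.transferSylow P hle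
  set zz : ↥C := ⟨z, S.zC⟩
  have hz2 : zz ^ 2 = 1 := Subtype.ext (by simpa [pow_two] using S.mul_self)
  have hodd : Odd (P : Subgroup ↥C).index :=
    Nat.not_even_iff_odd.1 fun h => P.not_dvd_index (even_iff_two_dvd.1 h)
  have hχz : ((χ zz : ↥(P : Subgroup ↥C)) : ↥C) = zz := by
    have e := congrArg Subtype.val (MonoidHom.transferSylow_eq_pow P hle zz (S.mem_sylow P))
    obtain ⟨i, hi⟩ := hodd
    rw [e]
    show zz ^ _ = zz
    rw [hi, pow_succ, pow_mul, hz2, one_pow, one_mul]
  have hker : ∀ w : ↥C, χ w = 1 → Odd (orderOf (w : G)) := by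
    intro w hw
    have h1 := MonoidHom.ker_transferSylow_isComplement' P hle
    rw [Subgroup.orderOf_coe]
    refine hodd.of_dvd_nat ?_
    rw [h1.index_eq_card, ← Subgroup.orderOf_mk w (MonoidHom.mem_ker.2 hw)]
    exact orderOf_dvd_natCard _
  set w : ↥C := ⟨c, hc⟩ ^ S.half
  have hw : (χ w) ^ 2 = 1 := by
    rw [map_pow, ← pow_mul, mul_comm, ← S.card_sylow P]
    exact pow_card_eq_one'
  rcases S.eq_z_of_mem_sylow P (χ w).2 (by
    simpa [pow_two] using congrArg (fun x => ((x.1 : G))) hw) with h | h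
  · exact ⟨c ^ S.half, pow_mem hc _, hker w (Subtype.ext (Subtype.ext h)), Or.inl rfl⟩
  · refine ⟨z * c ^ S.half, mul_mem S.zC (pow_mem hc _), hker (zz * w) ?_, Or.inr ?_⟩
    · refine Subtype.ext (Subtype.ext ?_)
      rw [map_mul, Subgroup.coe_mul, Subgroup.coe_mul, hχz, h]
      exact S.mul_self
    · rw [← mul_assoc, S.mul_self, one_mul]

/-- An involution which is such a power of a member of the normalizer lies in `A`. -/
theorem pow_half_mem {m : G} (hm : Commute m z) (h2 : m ^ S.half * m ^ S.half = 1) :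
    m ^ S.half ∈ A := by
  obtain ⟨a, ha, c, hc, rfl⟩ := S.exists_prod hm
  obtain ⟨o, ho, hodd, hco⟩ := S.pow_half hc
  rw [(commute_of_mem ha hc).mul_pow] at h2 ⊢
  have key : ∀ a' ∈ A, a' * o * (a' * o) = 1 → a' * o ∈ A := by
    intro a' ha' h
    have hd : o * o = a'⁻¹ * a'⁻¹ := by
      rw [← mul_inv_rev, eq_inv_iff_mul_eq_one]
      calc o * o * (a' * a') = o * (o * a') * a' := by group
        _ = o * (a' * o) * a' := by rw [(commute_of_mem ha' ho).eq]
        _ = (o * a') * (o * a') := by group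
        _ = 1 := by rw [← (commute_of_mem ha' ho).eq]; exact h
    have h4 : o ^ 4 = 1 := by
      rw [show o ^ 4 = o * o * (o * o) by simp [pow_succ, mul_assoc]]
      exact S.sq_center _ (hd ▸ mul_mem (inv_mem ha') (inv_mem ha')) (mul_mem ho ho)
    have h1 : orderOf o ∣ 4 := orderOf_dvd_of_pow_eq_one h4
    have : orderOf o = 1 := by
      have hle := Nat.le_of_dvd (by norm_num) h1
      have := Nat.odd_iff.1 hodd
      rcases (show orderOf o = 1 ∨ orderOf o = 3 by omega) with h' | h'
      · exact h'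
      · rw [h'] at h1; norm_num at h1
    rw [orderOf_eq_one_iff.1 this, mul_one]
    exact ha'
  rcases hco with e | e
  · rw [e] at h2 ⊢; exact key _ (pow_mem ha _) h2
  · rw [e, ← mul_assoc (a ^ S.half) z o] at h2 ⊢; exact key _ (mul_mem (pow_mem ha _) S.zA) h2

/-- An involution of `C(z)` commutes with an element whose half power is `z`. -/
theorem exists_root {u : G} (hu : Commute u z) (h2 : u * u = 1) :
    ∃ r : G, r ∈ centralizer (A : Set G) ∧ Commute r u ∧ r ^ S.half = z := by
  haveI : Fact (Nat.Prime 2) := ⟨Nat.prime_two⟩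
  obtain ⟨a, ha, c, hc, rfl⟩ := S.exists_prod hu
  let C := centralizer (A : Set G)
  have hcc : c * c = a⁻¹ * a⁻¹ := by
    rw [← mul_inv_rev, eq_inv_iff_mul_eq_one]
    calc c * c * (a * a) = c * (c * a) * a := by group
      _ = c * (a * c) * a := by rw [(commute_of_mem ha hc).eq]
      _ = (c * a) * (c * a) := by group
      _ = 1 := by rw [← (commute_of_mem ha hc).eq]; exact h2
  have h4 : (⟨c, hc⟩ : ↥C) ^ 4 = 1 := Subtype.ext (by
    have := S.sq_center _ (hcc ▸ mul_mem (inv_mem ha) (inv_mem ha)) (mul_mem hc hc)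
    simpa [pow_succ, mul_assoc] using this)
  have hP : IsPGroup 2 (zpowers (⟨c, hc⟩ : ↥C)) := by
    obtain ⟨j, -, hj⟩ := (Nat.dvd_prime_pow Nat.prime_two).1
      (orderOf_dvd_of_pow_eq_one (show (⟨c, hc⟩ : ↥C) ^ (2 ^ 2) = 1 from h4))
    exact IsPGroup.of_card (n := j) (by rw [Nat.card_zpowers, hj])
  obtain ⟨P, hPc⟩ := hP.exists_le_sylow
  haveI := S.cyc P
  obtain ⟨r, hr⟩ := IsCyclic.exists_ofOrder_eq_natCard (α := ↥(P : Subgroup ↥C))
  have hcomm : Commute r (⟨_, hPc (mem_zpowers _)⟩ : ↥(P : Subgroup ↥C)) := by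
    letI := IsCyclic.commGroup (α := ↥(P : Subgroup ↥C))
    exact Commute.all _ _
  have hrc : Commute ((r.1 : ↥C) : G) c := congrArg (fun x : ↥(P : Subgroup ↥C) => ((x : ↥C) : G)) hcomm.eq
  refine ⟨_, r.1.2, ((commute_of_mem ha r.1.2).symm).mul_right hrc, ?_⟩
  have ho : orderOf ((r.1 : ↥C) : G) = 2 * S.half := by
    rw [Subgroup.orderOf_coe, Subgroup.orderOf_coe, hr, S.card_sylow]
  have hh : orderOf (((r.1 : ↥C) : G) ^ S.half) = 2 := by
    rw [orderOf_pow_of_dvd (by simp [half]) (ho ▸ dvd_mul_left _ _), ho,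
      Nat.mul_div_cancel _ (by simp [half])]
  refine (S.eq_z_of_mem_sylow P (w := r.1 ^ S.half) (pow_mem r.2 _) ?_).resolve_left fun h => ?_
  · show ((r.1 : ↥C) : G) ^ S.half * ((r.1 : ↥C) : G) ^ S.half = 1
    have h1 := pow_orderOf_eq_one (((r.1 : ↥C) : G) ^ S.half)
    rwa [hh, pow_two] at h1
  · rw [show ((r.1 : ↥C) : G) ^ S.half = 1 from h, orderOf_one] at hh; omega

/-- The partner of a commuting conjugate of `z` lies in `A`. -/
theorem conj_inv_mem {g : G} (h : Commute (g * z * g⁻¹) z) : g⁻¹ * z * g ∈ A := by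
  obtain ⟨r, -, hru, hrz⟩ := S.exists_root h
    (by rw [show g * z * g⁻¹ * (g * z * g⁻¹) = g * (z * z) * g⁻¹ by group, S.mul_self, mul_one,
      mul_inv_cancel])
  have e : (g⁻¹ * r * g) ^ S.half = g⁻¹ * z * g := by
    have := map_pow (MulAut.conj g⁻¹) r S.half
    simp only [MulAut.conj_apply, inv_inv] at this
    rw [← this, hrz]
  rw [← e]
  refine S.pow_half_mem ?_ ?_
  · have := congrArg (fun x => g⁻¹ * x * g) hru.eq
    show g⁻¹ * r * g * z = z * (g⁻¹ * r * g)
    calc g⁻¹ * r * g * z = g⁻¹ * (r * (g * z * g⁻¹)) * g := by group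
      _ = g⁻¹ * (g * z * g⁻¹ * r) * g := this
      _ = z * (g⁻¹ * r * g) := by group
  · rw [e, show g⁻¹ * z * g * (g⁻¹ * z * g) = g⁻¹ * (z * z) * g by group, S.mul_self, mul_one,
      inv_mul_cancel]

/-- A conjugate of `z` commuting with `z` lies in `A`. -/
theorem conj_mem {g : G} (h : Commute (g * z * g⁻¹) z) : g * z * g⁻¹ ∈ A := by
  have h' : Commute (g⁻¹ * z * g⁻¹⁻¹) z := by
    rw [inv_inv]
    exact (commute_of_mem (S.conj_inv_mem h) S.zC)
  simpa using S.conj_inv_mem h'

/-- Conjugate to `z`. -/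
def IsK (_ : Setup A z) (x : G) : Prop := ∃ g : G, g * z * g⁻¹ = x

theorem isK_conj {x : G} (h : S.IsK x) (g : G) : S.IsK (g * x * g⁻¹) := by
  obtain ⟨k, rfl⟩ := h
  exact ⟨g * k, by group⟩

/-- With trivial odd core, `A` is normal when `z` has no other conjugate in `A`. -/
theorem normal_of_isolated (hO : Cfsg.oddCore G = ⊥)
    (h : ∀ x ∈ A, S.IsK x → x = z) : A.Normal := by
  have htop := ProductFusion.cent_eq_top_of_isolated hO S.mul_self S.ne_one fun g hg =>
    h _ (S.conj_mem hg.symm) ⟨g, rfl⟩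
  have hN : normalizer (A : Set G) = ⊤ := by
    rw [← S.centralizer_eq, ← htop]
  exact normalizer_eq_top_iff.1 hN

end Setup

end CfsgLib.StdDoubleCover
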